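import Groth.Agent.FF.RR
import Mathlib.FieldTheory.RatFunc.Basic
import Mathlib.FieldTheory.RatFunc.AsPolynomial
import Mathlib.RingTheory.AdjoinRoot
import Mathlib.LinearAlgebra.QuadraticForm.Basic

/-! Function fields of conics. -/

set_option autoImplicit false
set_option backward.isDefEq.respectTransparency false

open Polynomial FunFld
open scoped IntermediateField

noncomputable section

namespace Groth.Agent.ConicEdLib

variable {L K : Type*} [Field L] [CharZero L] [Field K] [Algebra L K]

/-- The polynomial `Y² + (aX² + 1)/b`. -/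
def conicPol (a b : L) : (RatFunc L)[X] :=
  X ^ 2 + C (algebraMap L[X] (RatFunc L) (C (a / b) * X ^ 2 + C (1 / b)))

omit [CharZero L] in
theorem natDegree_conicPol (a b : L) : (conicPol a b).natDegree = 2 := by
  rw [conicPol]; exact natDegree_X_pow_add_C

theorem not_sq {α β : L} (hα : α ≠ 0) (hβ : β ≠ 0) (r : RatFunc L) :
    r ^ 2 ≠ algebraMap L[X] (RatFunc L) (C α * X ^ 2 + C β) := by
  intro h
  have hint : IsIntegral L[X] r := IsIntegral.of_pow two_pos (h ▸ isIntegral_algebraMap)
  obtain ⟨p, rfl⟩ := IsIntegrallyClosed.isIntegral_iff.1 hint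
  rw [← map_pow] at h
  have hp : p ^ 2 = C α * X ^ 2 + C β := IsFractionRing.injective L[X] (RatFunc L) h
  have hd : (p ^ 2).natDegree = 2 := by
    rw [hp]
    exact (natDegree_add_C).trans (natDegree_C_mul_X_pow 2 α hα)
  rw [natDegree_pow] at hd
  rw [Polynomial.eq_X_add_C_of_natDegree_le_one (p := p) (by omega)] at hp
  have h0 := congrArg (fun q : L[X] => q.coeff 0) hp
  have h1 := congrArg (fun q : L[X] => q.eval 1) hp
  have h2 := congrArg (fun q : L[X] => q.eval (-1)) hp
  simp only [coeff_zero_eq_eval_zero] at h0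
  simp at h0 h1 h2
  have h3 : p.coeff 1 * p.coeff 0 = 0 := by linear_combination (h1 - h2) / 4
  rcases mul_eq_zero.1 h3 with h4 | h4 <;>
  · simp only [h4, ← coeff_zero_eq_eval_zero] at *
    grind

theorem irreducible_conicPol {a b : L} (ha : a ≠ 0) (hb : b ≠ 0) : Irreducible (conicPol a b) := by
  have hm : (conicPol a b).Monic := monic_X_pow_add_C _ two_ne_zero
  rw [hm.irreducible_iff_roots_eq_zero_of_degree_le_three (by rw [natDegree_conicPol])
    (by rw [natDegree_conicPol]; norm_num)]
  refine Multiset.eq_zero_of_forall_notMem fun r hr => ?_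
  have h := (mem_roots hm.ne_zero).1 hr
  rw [IsRoot.def, conicPol, eval_add, eval_pow, eval_X, eval_C, add_eq_zero_iff_eq_neg, ← map_neg, neg_add,
    ← neg_mul, ← C_neg, ← C_neg] at h
  exact not_sq (neg_ne_zero.2 (div_ne_zero ha hb)) (neg_ne_zero.2 (one_div_ne_zero hb)) r h

omit [CharZero L] in
theorem aeval_inj {x : K} (hx : Transcendental L x) : Function.Injective (aeval (R := L) x) :=
  transcendental_iff_injective.1 hx

theorem notMem_adjoin {a b : L} (ha : a ≠ 0) (hb : b ≠ 0) {x y : K} (hx : Transcendental L x)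
    (h : algebraMap L K a * x ^ 2 + algebraMap L K b * y ^ 2 + 1 = 0) : y ∉ L⟮x⟯ := by
  intro hy
  obtain ⟨r, s, rfl⟩ := (IntermediateField.mem_adjoin_simple_iff L y).1 hy
  have hb' : algebraMap L K b ≠ 0 := (_root_.map_ne_zero _).2 hb
  by_cases hs : aeval x s = 0
  · rw [hs, div_zero] at h
    refine hx ⟨C a * X ^ 2 + 1, fun h0 => ?_, ?_⟩
    · simpa using congrArg (fun q : L[X] => q.coeff 0) h0
    · simpa using h
  have hrel : C b * r ^ 2 + (C a * X ^ 2 + 1) * s ^ 2 = 0 := by
    apply aeval_inj hx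
    simp only [map_add, map_mul, map_pow, aeval_C, aeval_X, map_one, map_zero]
    field_simp at h
    linear_combination h
  have hs' : s ≠ 0 := fun h0 => hs (by simp [h0])
  let φ := algebraMap L[X] (RatFunc L)
  have hφs : φ s ≠ 0 := fun h0 => hs' (IsFractionRing.injective L[X] (RatFunc L) (h0.trans (map_zero φ).symm))
  refine not_sq (neg_ne_zero.2 (div_ne_zero ha hb)) (neg_ne_zero.2 (one_div_ne_zero hb)) (φ r / φ s) ?_
  rw [div_pow, div_eq_iff (pow_ne_zero 2 hφs), ← map_pow, ← map_pow, ← map_mul]
  congr 1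
  have hbC : C (b⁻¹) * C b = (1 : L[X]) := by rw [← C_mul, inv_mul_cancel₀ hb, C_1]
  simp only [div_eq_mul_inv, one_mul, C_neg, C_mul] at *
  linear_combination C (b⁻¹) * hrel - r ^ 2 * hbC

/-- A field generated by a transcendental point of a nondegenerate conic is determined by the conic. -/
theorem exists_algEquiv {a b : L} (ha : a ≠ 0) (hb : b ≠ 0) {x y : K} (hx : Transcendental L x)
    (h : algebraMap L K a * x ^ 2 + algebraMap L K b * y ^ 2 + 1 = 0)
    (htop : IntermediateField.adjoin L ({x, y} : Set K) = ⊤) :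
    Nonempty (AdjoinRoot (conicPol a b) ≃ₐ[L] K) := by
  haveI : Fact (Irreducible (conicPol a b)) := ⟨irreducible_conicPol ha hb⟩
  have hle : nonZeroDivisors L[X] ≤ (nonZeroDivisors K).comap (aeval (R := L) x) :=
    nonZeroDivisors_le_comap_nonZeroDivisors_of_injective _ (aeval_inj hx)
  let φ : RatFunc L →ₐ[L] K := RatFunc.liftAlgHom (aeval (R := L) x) hle
  have hφ : ∀ p : L[X], φ (algebraMap L[X] (RatFunc L) p) = aeval x p := fun p => by
    simpa using RatFunc.liftAlgHom_apply_div (φ := aeval (R := L) x) (hφ := hle) p 1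
  have hev : (conicPol a b).eval₂ φ.toRingHom y = 0 := by
    rw [conicPol, eval₂_add, eval₂_X_pow, eval₂_C, AlgHom.toRingHom_eq_coe, AlgHom.coe_toRingHom, hφ]
    simp only [map_add, map_mul, map_pow, aeval_C, aeval_X, map_div₀, map_one]
    have hb' : algebraMap L K b ≠ 0 := (_root_.map_ne_zero _).2 hb
    field_simp
    linear_combination h
  let ψ : AdjoinRoot (conicPol a b) →ₐ[L] K :=
    { toRingHom := AdjoinRoot.lift φ.toRingHom y hev
      commutes' := fun c => by
        show AdjoinRoot.lift φ.toRingHom y hev (algebraMap L _ c) = _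
        rw [IsScalarTower.algebraMap_apply L (RatFunc L) (AdjoinRoot (conicPol a b)), AdjoinRoot.algebraMap_eq,
          AdjoinRoot.lift_of]
        exact φ.commutes c }
  refine ⟨AlgEquiv.ofBijective ψ ⟨RingHom.injective ψ.toRingHom, fun z => ?_⟩⟩
  have hz : z ∈ ψ.fieldRange := by
    have hsub : IntermediateField.adjoin L ({x, y} : Set K) ≤ ψ.fieldRange := by
      rw [IntermediateField.adjoin_le_iff]
      rintro w (rfl | rfl)
      · exact ⟨AdjoinRoot.of _ (algebraMap L[X] _ X), (AdjoinRoot.lift_of hev).trans ((hφ X).trans (aeval_X _))⟩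
      · exact ⟨AdjoinRoot.root _, AdjoinRoot.lift_root hev⟩
    exact hsub (htop ▸ IntermediateField.mem_top)
  exact hz

omit [CharZero L] in
theorem two_term (hK : IsFunctionField L K) {u w : K} (hi : LinearIndependent L ![u, w]) {a b : L}
    (h : algebraMap L K a * u ^ 2 + algebraMap L K b * w ^ 2 = 0) : a = 0 ∧ b = 0 := by
  have hw : w ≠ 0 := hi.ne_zero 1
  by_cases ha : a = 0
  · refine ⟨ha, ?_⟩
    subst ha
    simpa [hw] using h
  · exfalso
    have ha' : algebraMap L K a ≠ 0 := (_root_.map_ne_zero _).2 ha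
    have halg : IsAlgebraic L (u / w) := by
      refine IsAlgebraic.of_pow two_pos ?_
      rw [show (u / w) ^ 2 = algebraMap L K (-b / a) by
        rw [map_div₀, map_neg]; field_simp; linear_combination h]
      exact isAlgebraic_algebraMap _
    obtain ⟨c, hc⟩ := hK.2 _ halg
    have h2 := LinearIndependent.pair_iff.1 hi 1 (-c) (by
      rw [neg_smul, one_smul, Algebra.smul_def, hc]; field_simp; ring)
    exact one_ne_zero h2.1

omit [CharZero L] in
theorem transcendental_exists (hK : IsFunctionField L K) {S : Set K} (hS : IntermediateField.adjoin L S = ⊤) :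
    ∃ s ∈ S, Transcendental L s := by
  by_contra hcon
  push Not at hcon
  obtain ⟨⟨t, ht, -⟩, -⟩ := hK
  haveI : Algebra.IsAlgebraic L (IntermediateField.adjoin L S) :=
    IntermediateField.isAlgebraic_adjoin fun s hs => (not_not.1 (hcon s hs)).isIntegral
  exact ht (IntermediateField.isAlgebraic_iff.1
    (Algebra.IsAlgebraic.isAlgebraic (⟨t, hS ▸ IntermediateField.mem_top⟩ : IntermediateField.adjoin L S)))

/-- The dehomogenised form of a diagonal conic in three generators. -/
theorem exists_affine_coords (hK : IsFunctionField L K) {a b : L} (ha : a ≠ 0) (hb : b ≠ 0) {u : Fin 3 → K}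
    (h1 : ∃ i, u i = 1) (htop : IntermediateField.adjoin L (Set.range u) = ⊤)
    (h : algebraMap L K a * u 0 ^ 2 + algebraMap L K b * u 1 ^ 2 + u 2 ^ 2 = 0) :
    Nonempty (AdjoinRoot (conicPol a b) ≃ₐ[L] K) := by
  have alg_of_sq : ∀ {c d : L} {z : K}, c ≠ 0 → algebraMap L K c * z ^ 2 + algebraMap L K d = 0 →
      IsAlgebraic L z := by
    intro c d z hc hz
    refine IsAlgebraic.of_pow two_pos ?_
    have hc' : algebraMap L K c ≠ 0 := (_root_.map_ne_zero _).2 hc
    rw [show z ^ 2 = algebraMap L K (-d / c) by rw [map_div₀, map_neg]; field_simp; linear_combination hz]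
    exact isAlgebraic_algebraMap _
  have h2 : u 2 ≠ 0 := by
    intro hu
    rw [hu, zero_pow two_ne_zero, add_zero] at h
    obtain ⟨s, ⟨j, rfl⟩, hs⟩ := transcendental_exists hK htop
    refine hs ?_
    obtain ⟨i, hi⟩ := h1
    fin_cases i <;> simp only [Fin.zero_eta, Fin.mk_one, Fin.reduceFinMk] at hi
    · rw [hi, one_pow, mul_one, add_comm] at h
      fin_cases j <;> simp only [Fin.zero_eta, Fin.mk_one, Fin.reduceFinMk]
      · rw [hi]; exact isAlgebraic_one
      · exact alg_of_sq hb h
      · rw [hu]; exact isAlgebraic_zero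
    · rw [hi, one_pow, mul_one] at h
      fin_cases j <;> simp only [Fin.zero_eta, Fin.mk_one, Fin.reduceFinMk]
      · exact alg_of_sq ha h
      · rw [hi]; exact isAlgebraic_one
      · rw [hu]; exact isAlgebraic_zero
    · exact absurd (hu.symm.trans hi) zero_ne_one
  set x := u 0 / u 2
  set y := u 1 / u 2
  have hxy : algebraMap L K a * x ^ 2 + algebraMap L K b * y ^ 2 + 1 = 0 := by
    simp only [x, y]; field_simp; linear_combination h
  have hgen : IntermediateField.adjoin L ({x, y} : Set K) = ⊤ := by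
    rw [eq_top_iff, ← htop, IntermediateField.adjoin_le_iff]
    set F := IntermediateField.adjoin L ({x, y} : Set K)
    have hx : x ∈ F := IntermediateField.subset_adjoin _ _ (Set.mem_insert _ _)
    have hy : y ∈ F := IntermediateField.subset_adjoin _ _ (Set.mem_insert_of_mem _ rfl)
    have hu2 : u 2 ∈ F := by
      obtain ⟨i, hi⟩ := h1
      fin_cases i <;> simp only [Fin.zero_eta, Fin.mk_one, Fin.reduceFinMk] at hi
      · simpa [x, hi] using F.inv_mem hx
      · simpa [y, hi] using F.inv_mem hy
      · rw [hi]; exact F.one_mem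
    rintro _ ⟨j, rfl⟩
    fin_cases j <;> simp only [Fin.zero_eta, Fin.mk_one, Fin.reduceFinMk, SetLike.mem_coe]
    · simpa [x, h2] using F.mul_mem hx hu2
    · simpa [y, h2] using F.mul_mem hy hu2
    · exact hu2
  refine exists_algEquiv ha hb ?_ hxy hgen
  intro hx
  obtain ⟨s, hs, hst⟩ := transcendental_exists hK hgen
  rcases hs with rfl | rfl
  · exact hst hx
  · refine hst (IsAlgebraic.of_pow two_pos ?_)
    have hb' : algebraMap L K b ≠ 0 := (_root_.map_ne_zero _).2 hb
    rw [show y ^ 2 = algebraMap L K (-1 / b) - algebraMap L K (a / b) * x ^ 2 by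
      simp only [map_div₀, map_neg, map_one]; field_simp; linear_combination hxy]
    exact (isAlgebraic_algebraMap _).sub ((isAlgebraic_algebraMap _).mul (hx.pow 2))

/-- A function field of genus zero is that of a diagonal conic. -/
theorem exists_conic (hK : IsFunctionField L K) (hg : genus L K = 0) :
    ∃ a b : L, a ≠ 0 ∧ b ≠ 0 ∧ Nonempty (AdjoinRoot (conicPol a b) ≃ₐ[L] K) := by
  classical
  haveI : CharZero K := charZero_of_injective_algebraMap (algebraMap L K).injective
  obtain ⟨C₀, hC⟩ := FF.exists_canonical hK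
  set E : Divisor L K := -C₀
  have hdE : E.deg = 2 := by rw [FF.deg_neg, (FF.canonical_deg hK hC).2, hg]; norm_num
  have hell : ell E = 3 := by
    have := FF.ell_of_deg_large hK (D := E) (by rw [hdE, hg]; norm_num)
    rw [hdE, hg] at this; omega
  have hell2 : ell (E + E) = 5 := by
    have := FF.ell_of_deg_large hK (D := E + E) (by rw [FF.deg_add, hdE, hg]; norm_num)
    rw [FF.deg_add, hdE, hg] at this; omega
  haveI := FF.finite_L hK E
  haveI := FF.finite_L hK (E + E)
  let B := Module.finBasisOfFinrankEq L (FunFld.L E) hell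
  let e : Fin 3 → K := fun i => (B i : K)
  have hei : LinearIndependent L e := B.linearIndependent.map' (Submodule.subtype _) (Submodule.ker_subtype _)
  let f : Fin 6 → FunFld.L (E + E) :=
    ![⟨e 0 * e 0, FF.mul_mem_L (B 0).2 (B 0).2⟩, ⟨e 1 * e 1, FF.mul_mem_L (B 1).2 (B 1).2⟩,
      ⟨e 2 * e 2, FF.mul_mem_L (B 2).2 (B 2).2⟩, ⟨e 0 * e 1, FF.mul_mem_L (B 0).2 (B 1).2⟩,
      ⟨e 0 * e 2, FF.mul_mem_L (B 0).2 (B 2).2⟩, ⟨e 1 * e 2, FF.mul_mem_L (B 1).2 (B 2).2⟩]
  have hdep : ¬ LinearIndependent L f := fun hli => by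
    have h1 := hli.fintype_card_le_finrank
    rw [Fintype.card_fin] at h1
    change 6 ≤ ell (E + E) at h1
    omega
  obtain ⟨g, hg0, hgne⟩ := Fintype.not_linearIndependent_iff.1 hdep
  have hrel := congrArg Subtype.val hg0
  simp only [Fin.sum_univ_six, f, Matrix.cons_val, Submodule.coe_add, SetLike.val_smul, ZeroMemClass.coe_zero,
    Algebra.smul_def] at hrel
  let M : Matrix (Fin 3) (Fin 3) L := !![g 0, g 3 / 2, g 4 / 2; g 3 / 2, g 1, g 5 / 2; g 4 / 2, g 5 / 2, g 2]
  let β : LinearMap.BilinForm L (Fin 3 → L) := Matrix.toBilin' M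
  have hsym : LinearMap.IsSymm β := by
    refine ⟨fun v w => ?_⟩
    simp [β, M, Matrix.toBilin'_apply, Fin.sum_univ_three]
    ring
  haveI : Invertible (2 : L) := invertibleOfNonzero two_ne_zero
  obtain ⟨o, ho⟩ := LinearMap.BilinForm.exists_orthogonal_basis hsym
  let o' : Module.Basis (Fin 3) L (Fin 3 → L) := o.reindex (finCongr (by simp))
  let D : Fin 3 → L := fun l => β (o' l) (o' l)
  have horth : ∀ l m, l ≠ m → β (o' l) (o' m) = 0 := fun l m hlm => by
    simp only [o', Module.Basis.reindex_apply]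
    exact ho fun h => hlm ((finCongr (by simp : Module.finrank L (Fin 3 → L) = 3)).symm.injective h)
  let r : Fin 3 → Fin 3 → L := fun i => o'.repr (Pi.single i 1)
  have hM : ∀ i j, M i j = ∑ l, r i l * r j l * D l := fun i j => by
    have h1 : M i j = β (Pi.single i 1) (Pi.single j 1) := (Matrix.toBilin'_single M i j).symm
    rw [h1, ← LinearMap.sum_repr_mul_repr_mul o' o' (B := β)]
    rw [Finsupp.sum_fintype _ _ (by simp)]
    refine Finset.sum_congr rfl fun l _ => ?_
    rw [Finsupp.sum_fintype _ _ (by simp), Finset.sum_eq_single l]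
    · simp only [r, D, smul_eq_mul]; ring
    · intro m _ hm; simp [horth l m (Ne.symm hm)]
    · simp
  let v : Fin 3 → K := fun l => ∑ i, r i l • e i
  have hvrel : ∑ l, algebraMap L K (D l) * v l ^ 2 = 0 := by
    have h00 := congrArg (algebraMap L K) (hM 0 0)
    have h11 := congrArg (algebraMap L K) (hM 1 1)
    have h22 := congrArg (algebraMap L K) (hM 2 2)
    have h01 := congrArg (algebraMap L K) (hM 0 1)
    have h02 := congrArg (algebraMap L K) (hM 0 2)
    have h12 := congrArg (algebraMap L K) (hM 1 2)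
    simp [M, Fin.sum_univ_three, map_div₀, map_ofNat] at h00 h11 h22 h01 h02 h12
    simp only [v, Fin.sum_univ_three, Algebra.smul_def]
    linear_combination hrel - e 0 * e 0 * h00 - e 1 * e 1 * h11 - e 2 * e 2 * h22 - 2 * (e 0 * e 1) * h01 -
      2 * (e 0 * e 2) * h02 - 2 * (e 1 * e 2) * h12
  have hspan : ∀ i, e i = ∑ l, o' l i • v l := fun i => by
    have h1 : ∀ j, (∑ l, o' l i * r j l) = (Pi.single j 1 : Fin 3 → L) i := fun j => by
      have h := congrFun (o'.sum_repr (Pi.single j 1)) i
      rw [Finset.sum_apply] at h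
      rw [← h]
      exact Finset.sum_congr rfl fun l _ => mul_comm _ _
    calc e i = ∑ j, (Pi.single j 1 : Fin 3 → L) i • e j := by simp [Pi.single_apply]
      _ = ∑ j, ∑ l, (o' l i * r j l) • e j := by simp_rw [← h1, Finset.sum_smul]
      _ = ∑ l, o' l i • v l := by rw [Finset.sum_comm]; simp_rw [v, Finset.smul_sum, smul_smul]
  have hvi : LinearIndependent L v := by
    haveI := Module.Finite.span_of_finite L (Set.finite_range v)
    rw [linearIndependent_iff_card_le_finrank_span, Fintype.card_fin]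
    calc 3 = (Set.range e).finrank L := by
          rw [← linearIndependent_iff_card_eq_finrank_span.1 hei, Fintype.card_fin]
      _ ≤ (Set.range v).finrank L := by
          refine Submodule.finrank_mono (Submodule.span_le.2 ?_)
          rintro _ ⟨i, rfl⟩
          rw [hspan i]
          exact Submodule.sum_mem _ fun l _ => Submodule.smul_mem _ _ (Submodule.subset_span ⟨l, rfl⟩)
  have hpair : ∀ l m, l ≠ m → LinearIndependent L ![v l, v m] := fun l m hlm => by
    have h := hvi.comp ![l, m] (by intro p q; fin_cases p <;> fin_cases q <;> simp [hlm, Ne.symm hlm])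
    convert h using 1
    funext p; fin_cases p <;> rfl
  simp only [Fin.sum_univ_three] at hvrel
  have hD : ∀ l, D l ≠ 0 := by
    intro l hl
    have hall : ∀ m, D m = 0 := by
      fin_cases l <;> simp only [Fin.zero_eta, Fin.mk_one, Fin.reduceFinMk] at hl
      · have := two_term hK (hpair 1 2 (by decide)) (a := D 1) (b := D 2) (by simpa [hl] using hvrel)
        intro m; fin_cases m <;> tauto
      · have := two_term hK (hpair 0 2 (by decide)) (a := D 0) (b := D 2) (by simpa [hl] using hvrel)
        intro m; fin_cases m <;> tauto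
      · have := two_term hK (hpair 0 1 (by decide)) (a := D 0) (b := D 1) (by simpa [hl] using hvrel)
        intro m; fin_cases m <;> tauto
    have hM0 : ∀ i j, M i j = 0 := fun i j => by simp [hM i j, hall]
    obtain ⟨i, hi⟩ := hgne
    have := hM0 0 0; have := hM0 1 1; have := hM0 2 2
    have := hM0 0 1; have := hM0 0 2; have := hM0 1 2
    simp [M] at *
    fin_cases i <;> simp_all
  have hvE : ∀ l, v l ∈ FunFld.L E := fun l => Submodule.sum_mem _ fun i _ => Submodule.smul_mem _ _ (B i).2
  have hv0 : ∀ l, v l ≠ 0 := hvi.ne_zero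
  set x := v 0 / v 2
  set y := v 1 / v 2
  set a := D 0 / D 2
  set b := D 1 / D 2
  have ha : a ≠ 0 := div_ne_zero (hD 0) (hD 2)
  have hb : b ≠ 0 := div_ne_zero (hD 1) (hD 2)
  have hxy : algebraMap L K a * x ^ 2 + algebraMap L K b * y ^ 2 + 1 = 0 := by
    have := (_root_.map_ne_zero (algebraMap L K)).2 (hD 2)
    have := hv0 2
    simp only [a, b, x, y, map_div₀]
    field_simp
    linear_combination hvrel
  have hx : Transcendental L x := FF.transcendental_of_not_mem hK fun ⟨c, hc⟩ => by
    refine one_ne_zero (LinearIndependent.pair_iff.1 (hpair 0 2 (by decide)) 1 (-c) ?_).1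
    rw [neg_smul, one_smul, Algebra.smul_def, hc]
    simp only [x]; field_simp [hv0 2]; ring
  have hx0 : x ≠ 0 := div_ne_zero (hv0 0) (hv0 2)
  have hdeg : Module.finrank L⟮x⟯ K ≤ 2 := by
    have hle : FF.zeros (k := L) x⁻¹ ≤ E + FunFld.div L (v 2) := fun P => by
      have h0 := (FF.mem_L_iff_ord (hv0 0)).1 (hvE 0) P
      have h2 := (FF.mem_L_iff_ord (hv0 2)).1 (hvE 2) P
      rw [FF.zeros_apply hK, FF.ord_inv, Finsupp.add_apply, FF.div_apply hK]
      simp only [x, div_eq_mul_inv]
      rw [FF.ord_mul _ (hv0 0) (inv_ne_zero (hv0 2)), FF.ord_inv]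
      omega
    have h3 := FF.deg_mono hle
    rw [FF.deg_zeros hK (fun h => hx (by simpa using h.inv)), FF.adjoin_inv, FF.deg_add, FF.deg_div hK, hdE] at h3
    omega
  haveI := FF.finiteDimensional_adjoin hK hx
  have hy : y ∉ L⟮x⟯ := notMem_adjoin ha hb hx hxy
  have htop : IntermediateField.adjoin L⟮x⟯ ({y} : Set K) = ⊤ := by
    have h1 : Module.finrank L⟮x⟯ (IntermediateField.adjoin L⟮x⟯ ({y} : Set K)) ≠ 1 := fun h => by
      rw [IntermediateField.finrank_eq_one_iff, IntermediateField.adjoin_simple_eq_bot_iff,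
        IntermediateField.mem_bot] at h
      obtain ⟨z, hz⟩ := h
      exact hy (hz ▸ z.2)
    have h2 := Module.finrank_mul_finrank L⟮x⟯ (IntermediateField.adjoin L⟮x⟯ ({y} : Set K)) K
    have h4 : 0 < Module.finrank L⟮x⟯ (IntermediateField.adjoin L⟮x⟯ ({y} : Set K)) := Module.finrank_pos
    have h5 : 0 < Module.finrank (IntermediateField.adjoin L⟮x⟯ ({y} : Set K)) K := Module.finrank_pos
    refine IntermediateField.finrank_eq_one_iff_eq_top.1 ?_
    by_contra hne
    have h6 := Nat.mul_le_mul (show 2 ≤ Module.finrank L⟮x⟯ (IntermediateField.adjoin L⟮x⟯ ({y} : Set K)) by omega)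
      (show 2 ≤ Module.finrank (IntermediateField.adjoin L⟮x⟯ ({y} : Set K)) K by omega)
    omega
  refine ⟨a, b, ha, hb, exists_algEquiv ha hb hx hxy ?_⟩
  have h := congrArg (IntermediateField.restrictScalars L) htop
  rwa [IntermediateField.adjoin_simple_adjoin_simple, IntermediateField.restrictScalars_top] at h

end Groth.Agent.ConicEdLib
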