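import Groth.Agent.PlaneTwistLib.Cubic
import Groth.Agent.CIEquidimLib.Main
import Groth.Agent.ConicEdLib.FunField
import Groth.Agent.CurveFF.Div
import Groth.Agent.CurveFF.Genus
import Groth.Agent.CurveFF.Morph
import Groth.Agent.CurveP1Lib.GeomP1
import Groth.Agent.CurveP1Lib.Transport
import Groth.Agent.AVLib.GeomInt
import Groth.Agent.GeomIrred.Scheme
import Groth.Agent.S1536

/-!
# The diagonal conic `a x² + b y² + z²`
-/

set_option autoImplicit false
set_option backward.isDefEq.respectTransparency false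
set_option backward.isDefEq.respectTransparency.types false
set_option linter.style.haveILetI false
set_option maxHeartbeats 1600000

universe u

open CategoryTheory CategoryTheory.Limits AlgebraicGeometry TopologicalSpace Opposite MvPolynomial HomogeneousLocalization

noncomputable section

namespace Groth.Agent.ConicEdLib

open Groth.Agent Groth.Agent.PlaneTwistLib Groth.Agent.CurveFF

attribute [local instance] Curv2.stalkAlgebra
attribute [local instance high] FunFld.Place.algRes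

variable {F : Type u} [Field F]

/-- The conic `a x² + b y² + z²`. -/
def conic (a b : F) : LefPen.Form 2 F 2 :=
  ⟨C a * X 0 ^ 2 + C b * X 1 ^ 2 + X 2 ^ 2, by
    refine MvPolynomial.IsHomogeneous.add (MvPolynomial.IsHomogeneous.add ?_ ?_) ?_
    · exact ((isHomogeneous_X F 0).pow 2).C_mul _
    · exact ((isHomogeneous_X F 1).pow 2).C_mul _
    · exact (isHomogeneous_X F 2).pow 2⟩

theorem conic_ne_zero (a b : F) : conic a b ≠ 0 := fun h => by
  have h1 := congrArg (fun G : LefPen.Form 2 F 2 => eval ![0, 0, 1] G.1) h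
  simp [conic] at h1

theorem exists_isPullback_conic {L : Type u} [Field L] (φ : F →+* L) (a b : F) :
    ∃ q : (LefPen.hypIdeal (conic (φ a) (φ b))).subscheme ⟶ (LefPen.hypIdeal (conic a b)).subscheme,
      IsPullback q ((LefPen.hypIdeal (conic (φ a) (φ b))).subschemeι ≫ CohB1.ProjSpace.toSpec 2 L)
        ((LefPen.hypIdeal (conic a b)).subschemeι ≫ CohB1.ProjSpace.toSpec 2 F) (Spec.map (CommRingCat.ofHom φ)) :=
  exists_isPullback_str φ (fun _ => 1) _ (conic_ne_zero a b) _ (conic_ne_zero _ _)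
    (Subtype.ext (by
      show substHom φ _ _ = _
      simp [conic, substHom_X, substHom_C]))

theorem smooth_conic {a b : F} (ha : a ≠ 0) (hb : b ≠ 0) (h2 : (2 : F) ≠ 0) :
    Smooth ((LefPen.hypIdeal (conic a b)).subschemeι ≫ CohB1.ProjSpace.toSpec 2 F) := by
  refine smooth_of_derivation _ (conic_ne_zero a b) fun i => ?_
  obtain ⟨H, hH⟩ : ∃ H : MvPolynomial (Fin 2) F, H * 2 = 1 :=
    ⟨C (2 : F)⁻¹, by rw [← map_ofNat (C (σ := Fin 2) (R := F)) 2, ← C_mul, inv_mul_cancel₀ h2, C_1]⟩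
  obtain ⟨A, hA⟩ : ∃ A : MvPolynomial (Fin 2) F, A * C a = 1 :=
    ⟨C a⁻¹, by rw [← C_mul, inv_mul_cancel₀ ha, C_1]⟩
  obtain ⟨B, hB⟩ : ∃ B : MvPolynomial (Fin 2) F, B * C b = 1 :=
    ⟨C b⁻¹, by rw [← C_mul, inv_mul_cancel₀ hb, C_1]⟩
  have hc : chartEqn (conic a b) i = C a * PicProjLib.dehomVec 2 F i 0 ^ 2 +
      C b * PicProjLib.dehomVec 2 F i 1 ^ 2 + PicProjLib.dehomVec 2 F i 2 ^ 2 := by
    simp [chartEqn, conic]
  rw [hc, dehomVec_two]
  match i with
  | 0 =>
    refine exists_derivation (-(H * A * X 0)) (-(H * A * X 1)) (-A) ?_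
    simp [pderiv_X_self, pderiv_X_of_ne]
    linear_combination hA - (A * (C b * X 0 ^ 2 + X 1 ^ 2)) * hH
  | 1 =>
    refine exists_derivation (-(H * B * X 0)) (-(H * B * X 1)) (-B) ?_
    simp [pderiv_X_self, pderiv_X_of_ne]
    linear_combination hB - (B * (C a * X 0 ^ 2 + X 1 ^ 2)) * hH
  | 2 =>
    refine exists_derivation (-(H * X 0)) (-(H * X 1)) (-1) ?_
    simp [pderiv_X_self, pderiv_X_of_ne]
    linear_combination -(C a * X 0 ^ 2 + C b * X 1 ^ 2) * hH

theorem isIntegral_conic {a b : F} (ha : a ≠ 0) (hb : b ≠ 0) (h2 : (2 : F) ≠ 0) :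
    IsIntegral (LefPen.hypIdeal (conic a b)).subscheme := by
  letI : (LefPen.hypIdeal (conic a b)).subscheme.Over (Spec (CommRingCat.of F)) :=
    ⟨(LefPen.hypIdeal (conic a b)).subschemeι ≫ CohB1.ProjSpace.toSpec 2 F⟩
  haveI : Smooth ((LefPen.hypIdeal (conic a b)).subscheme ↘ Spec (CommRingCat.of F)) := smooth_conic ha hb h2
  exact CurveFF.PlaneCurve.isIntegral _ (conic_ne_zero a b) rfl (by norm_num)

theorem dim_conic {a b : F} (ha : a ≠ 0) (hb : b ≠ 0) (h2 : (2 : F) ≠ 0) :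
    topologicalKrullDim (LefPen.hypIdeal (conic a b)).subscheme = 1 := by
  haveI := isIntegral_conic ha hb h2
  letI : (LefPen.hypIdeal (conic a b)).subscheme.Over (Spec (CommRingCat.of F)) :=
    ⟨(LefPen.hypIdeal (conic a b)).subschemeι ≫ CohB1.ProjSpace.toSpec 2 F⟩
  haveI : IsIntegral (CohB1.ProjSpace 2 F) := REqLib.isIntegral_projSpace 2 F
  have hP : topologicalKrullDim (CohB1.ProjSpace 2 F) = ((2 : ℕ) : WithBot ℕ∞) := by
    exact_mod_cast S10829.result F 2
  have hemb : Topology.IsClosedEmbedding (LefPen.hypIdeal (conic a b)).subschemeι.base :=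
    (LefPen.hypIdeal (conic a b)).subschemeι.isClosedEmbedding
  have hlt : topologicalKrullDim (LefPen.hypIdeal (conic a b)).subscheme < ((2 : ℕ) : WithBot ℕ∞) := by
    rw [← hP]
    refine lt_of_le_of_lt ?_ (S10830.result (CohB1.ProjSpace 2 F) ?_ _ hemb.isClosed_range
      (CurveFF.PlaneCurve.range_ne_univ (conic a b) (conic_ne_zero a b)))
    · exact (IsHomeomorph.topologicalKrullDim_eq _ hemb.isEmbedding.toHomeomorph.isHomeomorph).le
    · rw [hP]; exact ne_of_beq_false rfl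
  have hci : LefPen.ciIdeal (fun _ : Fin 1 => conic a b) = LefPen.hypIdeal (conic a b) := by
    rw [LefPen.ciIdeal]; exact iSup_const
  have hge : ((1 : ℕ) : WithBot ℕ∞) ≤ topologicalKrullDim (LefPen.hypIdeal (conic a b)).subscheme := by
    rw [← hci]
    haveI : Nonempty ↥(LefPen.ciIdeal (fun _ : Fin 1 => conic a b)).subscheme := by rw [hci]; infer_instance
    obtain ⟨w⟩ := this
    refine le_trans ?_ (topologicalKrullDim_subspace_le _ (irreducibleComponent w))
    exact CIEquidimLib.le_dim_component (n := 2) (k := F) (fun _ : Fin 1 => conic a b) (irreducibleComponent w)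
      (irreducibleComponent_mem_irreducibleComponents w)
  revert hlt hge
  generalize topologicalKrullDim (LefPen.hypIdeal (conic a b)).subscheme = D
  intro hlt hge
  rcases D with _ | D
  · exact absurd hge (not_le.2 (WithBot.bot_lt_coe _))
  rcases D with _ | n
  · exact absurd (hlt.trans_le le_top) (lt_irrefl _)
  · have h1 : n < 2 := Nat.cast_lt.1 (WithBot.coe_lt_coe.1 hlt)
    have h2 : 1 ≤ n := Nat.cast_le.1 (WithBot.coe_le_coe.1 hge)
    obtain rfl : n = 1 := by omega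
    rfl

theorem isCurveOfGenus_conic {a b : F} (ha : a ≠ 0) (hb : b ≠ 0) (h2 : (2 : F) ≠ 0) :
    ModFun.IsCurveOfGenus 0 ((LefPen.hypIdeal (conic a b)).subschemeι ≫ CohB1.ProjSpace.toSpec 2 F) := by
  letI iC : (LefPen.hypIdeal (conic a b)).subscheme.Over (Spec (CommRingCat.of F)) :=
    ⟨(LefPen.hypIdeal (conic a b)).subschemeι ≫ CohB1.ProjSpace.toSpec 2 F⟩
  haveI : IsProper ((LefPen.hypIdeal (conic a b)).subscheme ↘ Spec (CommRingCat.of F)) :=
    CurveFF.PlaneCurve.isProper (conic a b) rfl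
  have hne : ∀ (L : Type u) [Field L] (φ : F →+* L), φ a ≠ 0 ∧ φ b ≠ 0 ∧ (2 : L) ≠ 0 := fun L _ φ =>
    ⟨(_root_.map_ne_zero φ).2 ha, (_root_.map_ne_zero φ).2 hb, by rw [← map_ofNat φ 2]; exact (_root_.map_ne_zero φ).2 h2⟩
  refine ⟨smooth_conic ha hb h2, ‹_›, ⟨fun L _ y T fst snd h => ?_⟩, ?_⟩
  · obtain ⟨ψ, rfl⟩ : ∃ ψ, Spec.map ψ = y := ⟨Spec.preimage y, Spec.map_preimage y⟩
    obtain ⟨q, hq⟩ := exists_isPullback_conic ψ.hom a b
    obtain ⟨h1, h1', h1''⟩ := hne L ψ.hom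
    haveI := isIntegral_conic h1 h1' h1''
    let e := (h.isoIsPullback _ _ hq).hom.homeomorph
    exact e.symm.surjective.irreducibleSpace e.symm.continuous
  · intro Ω _ _ y T fst snd h
    obtain ⟨ψ, rfl⟩ : ∃ ψ, Spec.map ψ = y := ⟨Spec.preimage y, Spec.map_preimage y⟩
    obtain ⟨q, hq⟩ := exists_isPullback_conic ψ.hom a b
    obtain ⟨h1, h1', h1''⟩ := hne Ω ψ.hom
    refine ⟨?_, ?_⟩
    · rw [← dim_conic h1 h1' h1'']
      exact (h.isoIsPullback _ _ hq).hom.homeomorph.isHomeomorph.topologicalKrullDim_eq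
    · letI iT : T.Over (Spec (CommRingCat.of Ω)) := ⟨snd⟩
      letI : Algebra F Ω := ψ.hom.toAlgebra
      haveI := EulerIneqLib.isNoetherian_proper (X := (LefPen.hypIdeal (conic a b)).subscheme) F
      haveI : Coh.IsQCoh (Coh.structureModule (LefPen.hypIdeal (conic a b)).subscheme) := CohBase.isQCoh_structureModule
      obtain ⟨e⟩ := S0034.result F Ω (LefPen.hypIdeal (conic a b)).subscheme T fst h
        (Coh.structureModule (LefPen.hypIdeal (conic a b)).subscheme) 1
      show Module.finrank Ω _ = 0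
      haveI : Module.Free F (Coh.HH (LefPen.hypIdeal (conic a b)).subscheme (Coh.structureModule (LefPen.hypIdeal (conic a b)).subscheme) 1) := @Module.Free.of_divisionRing _ _ _ _ _
      rw [← ShBCLib.finrank_HH_iso (DCohLib.pullStructureIso fst) 1, ← e.finrank_eq, Module.finrank_baseChange,
        show (1 : ℕ) = 2 - 1 from rfl, HypSurfLib.finrank_top (conic a b) (conic_ne_zero a b) rfl (by norm_num) le_rfl]
      rfl

section Coords

variable {k : Type u} [Field k] {d : ℕ} (G : LefPen.Form 2 k d) (hG : G ≠ 0)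
  [(LefPen.hypIdeal G).subscheme.Over (Spec (CommRingCat.of k))]
  (hinst : (LefPen.hypIdeal G).subscheme ↘ Spec (CommRingCat.of k) =
    (LefPen.hypIdeal G).subschemeι ≫ CohB1.ProjSpace.toSpec 2 k)

set_option quotPrecheck false
local notation "Cv" => (LefPen.hypIdeal G).subscheme
local notation "ι₀" => (LefPen.hypIdeal G).subschemeι

include hG hinst in
/-- Homogeneous coordinates of the generic point of a plane curve. -/
theorem exists_coords₃ [IsIntegral Cv] :
    ∃ u : Fin (2 + 1) → (Cv).functionField, (∃ i, u i = 1) ∧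
      IntermediateField.adjoin k (Set.range u) = ⊤ ∧ MvPolynomial.aeval u G.1 = 0 := by
  classical
  set η := genericPoint Cv
  obtain ⟨i, hi⟩ := Opens.mem_iSup.1 ((AmpleEmb.iSup_stdOpen 2 k).ge (Opens.mem_top ((ι₀) η)))
  let V := LefPen.chart 2 k i
  have hη : η ∈ (ι₀) ⁻¹ᵁ V := hi
  let ρ : Away (CohB1.polyGrading 2 k) (X i : MvPolynomial (Fin (2 + 1)) k) →+* (Cv).functionField :=
    ((Cv).presheaf.germ ((ι₀) ⁻¹ᵁ V) η hη).hom.comp
      (((ι₀).app V).hom.comp (Proj.awayToSection (CohB1.polyGrading 2 k) (X i)).hom)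
  have halg : ProjMap.IsAlg i ρ := by
    intro r
    have h1 := ProjCoh.φV_projφ (CohB1.polyGrading 2 k) (ProjMap.X_mem (R := k) i) one_pos r
    show (Cv).presheaf.germ ((ι₀) ⁻¹ᵁ V) η hη ((ι₀).app V (Proj.awayToSection (CohB1.polyGrading 2 k) (X i)
      (ProjCoh.awayConst (CohB1.polyGrading 2 k) (X i : MvPolynomial (Fin (2 + 1)) k) r))) = _
    rw [← h1]
    show (Cv).presheaf.germ ((ι₀) ⁻¹ᵁ V) η hη ((ι₀).app V ((CohB1.ProjSpace 2 k).presheaf.map
      (homOfLE le_top).op (Coh.toGlobal (CohB1.ProjSpace.toSpec 2 k) r))) =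
      (Cv).presheaf.germ ⊤ η trivial (Coh.toGlobal (Cv ↘ Spec (CommRingCat.of k)) r)
    rw [hinst]
    refine Eq.trans (congrArg ((Cv).presheaf.germ ((ι₀) ⁻¹ᵁ V) η hη)
      (ConcreteCategory.congr_hom ((ι₀).naturality (homOfLE (le_top : V ≤ ⊤)).op)
        (Coh.toGlobal (CohB1.ProjSpace.toSpec 2 k) r))) ?_
    exact TopCat.Presheaf.germ_res_apply (Cv).presheaf _ _ _ _
  have hρ := ProjMap.eq_evalAway_coords i ρ halg
  set u := ProjMap.coords i ρ with hu
  have hui : u i = 1 := ProjMap.coords_self i ρ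
  have hval : ∀ z, ρ z ∈ IntermediateField.adjoin k (Set.range u) := by
    intro z
    obtain ⟨n, a, ha, rfl⟩ := Away.mk_surjective (𝒜 := CohB1.polyGrading 2 k) (ProjMap.X_mem i) z
    rw [hρ, CurveFF.PlaneCurve.evalAway_mk_one i hui _ n a ha]
    exact IntermediateField.algebra_adjoin_le_adjoin k _
      (Algebra.adjoin_range_eq_range_aeval k u ▸ ⟨a, rfl⟩)
  refine ⟨u, ⟨i, hui⟩, ?_, ?_⟩
  · refine eq_top_iff.2 fun z _ => ?_
    obtain ⟨w, rfl⟩ := (ι₀).stalkMap_surjective η z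
    letI := (CohB1.ProjSpace 2 k).presheaf.algebra_section_stalk (U := V) ⟨(ι₀) η, hi⟩
    haveI := (CurveFF.PlaneCurve.isAffineOpen_chart (k := k) i).isLocalization_stalk ⟨(ι₀) η, hi⟩
    obtain ⟨⟨a, s⟩, hw⟩ := IsLocalization.surj
      ((CurveFF.PlaneCurve.isAffineOpen_chart (k := k) i).primeIdealOf ⟨(ι₀) η, hi⟩).asIdeal.primeCompl w
    have hs : IsUnit ((CohB1.ProjSpace 2 k).presheaf.germ V ((ι₀) η) hi s.1) :=
      IsLocalization.map_units _ s
    change w * (CohB1.ProjSpace 2 k).presheaf.germ V ((ι₀) η) hi s.1 =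
      (CohB1.ProjSpace 2 k).presheaf.germ V ((ι₀) η) hi a at hw
    have hbij := ConcreteCategory.bijective_of_isIso
      (Proj.basicOpenIsoAway (CohB1.polyGrading 2 k) (X i) (ProjMap.X_mem i) one_pos).hom
    obtain ⟨a', ha'⟩ := hbij.2 a
    obtain ⟨s', hs'⟩ := hbij.2 s.1
    have hρ' : ∀ b, (ι₀).stalkMap η ((CohB1.ProjSpace 2 k).presheaf.germ V ((ι₀) η) hi
        ((Proj.basicOpenIsoAway (CohB1.polyGrading 2 k) (X i) (ProjMap.X_mem i) one_pos).hom b)) = ρ b :=
      fun b => Scheme.Hom.germ_stalkMap_apply (ι₀) V η hη _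
    have h2 := congrArg ((ι₀).stalkMap η) hw
    rw [map_mul, ← ha', ← hs', hρ', hρ'] at h2
    have hs0 : ρ s' ≠ 0 := by
      rw [← hρ' s', hs']
      exact (hs.map ((ι₀).stalkMap η).hom).ne_zero
    rw [(eq_div_iff hs0).2 h2]
    exact div_mem (hval a') (hval s')
  · have hGd : G.1 ∈ CohB1.polyGrading 2 k (d • 1) := by rw [smul_eq_mul, mul_one]; exact G.2
    rw [← CurveFF.PlaneCurve.evalAway_mk_one i hui (by simp [hui]) d G.1 hGd, ← hρ]
    show (Cv).presheaf.germ ((ι₀) ⁻¹ᵁ V) η hη ((ι₀).app V (LefPen.dehom G i)) = 0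
    rw [CurveFF.PlaneCurve.app_dehom G hG i, map_zero]

end Coords

/-- A smooth curve of genus zero is a diagonal conic. -/
theorem exists_iso_conic [CharZero F] {C : Scheme.{u}} (f : C ⟶ Spec (CommRingCat.of F))
    (hC : ModFun.IsCurveOfGenus 0 f) :
    ∃ (a b : F) (σ : C ≅ (LefPen.hypIdeal (conic a b)).subscheme), a ≠ 0 ∧ b ≠ 0 ∧
      σ.hom ≫ (LefPen.hypIdeal (conic a b)).subschemeι ≫ CohB1.ProjSpace.toSpec 2 F = f := by
  obtain ⟨hsm, hpr, hirr, hgen⟩ := hC
  letI : C.Over (Spec (CommRingCat.of F)) := ⟨f⟩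
  haveI : IsProper (C ↘ Spec (CommRingCat.of F)) := hpr
  haveI : Smooth (C ↘ Spec (CommRingCat.of F)) := hsm
  haveI : GeometricallyIrreducible (C ↘ Spec (CommRingCat.of F)) := hirr
  haveI : IrreducibleSpace C := hirr.geometrically_irreducibleSpace (𝟙 _) (𝟙 _) f
    (IsPullback.of_horiz_isIso ⟨by simp⟩)
  haveI : IsIntegral C := CurveLib.isIntegral_of_smooth F
  let Ω := AlgebraicClosure F
  obtain ⟨hd, hg⟩ := hgen Ω (Spec.map (CommRingCat.ofHom (algebraMap F Ω))) (Curv2.bc F C Ω) (Curv2.bcFst F C Ω)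
    (Curv2.bc F C Ω ↘ Spec (CommRingCat.of Ω)) (IsPullback.of_hasPullback _ _)
  have hdim : topologicalKrullDim C = 1 := (CurveP1Lib.dim_bc F Ω).symm.trans hd
  have hgenus : Curv2.genus F C = 0 := (CurveP1Lib.finrank_HH_bc_structure F Ω 1).symm.trans hg
  haveI := VBLib.isRegCurve_of_smooth (X := C) F hdim.le
  haveI := AVLib.geometricallyReduced_of_smooth (C ↘ Spec (CommRingCat.of F))
  haveI := GeomIrred.geometricallyConnected_of_geometricallyIrreducible (C ↘ Spec (CommRingCat.of F))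
  have h0 := S1536.result F C
  have hK := CurveFF.isFunctionField F hdim h0
  obtain ⟨a, b, ha, hb, ⟨e₁⟩⟩ := exists_conic hK ((CurveFF.genus_eq (k := F) hdim h0).symm.trans hgenus)
  have h2 : (2 : F) ≠ 0 := two_ne_zero
  let V := (LefPen.hypIdeal (conic a b)).subscheme
  letI : V.Over (Spec (CommRingCat.of F)) := ⟨(LefPen.hypIdeal (conic a b)).subschemeι ≫ CohB1.ProjSpace.toSpec 2 F⟩
  haveI : IsIntegral V := isIntegral_conic ha hb h2
  haveI : Smooth (V ↘ Spec (CommRingCat.of F)) := smooth_conic ha hb h2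
  haveI : IsProper (V ↘ Spec (CommRingCat.of F)) := CurveFF.PlaneCurve.isProper (conic a b) rfl
  have hdimV : topologicalKrullDim V = 1 := dim_conic ha hb h2
  haveI := VBLib.isRegCurve_of_smooth (X := V) F hdimV.le
  have hKV := CurveFF.isFunctionField F hdimV (HypSurfLib.finrank_H0 (conic a b) (conic_ne_zero a b) rfl (by norm_num) le_rfl)
  obtain ⟨u, hu1, htop, hrel⟩ := exists_coords₃ (conic a b) (conic_ne_zero a b) rfl
  have hrel' : algebraMap F V.functionField a * u 0 ^ 2 + algebraMap F V.functionField b * u 1 ^ 2 + u 2 ^ 2 = 0 := by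
    change MvPolynomial.aeval u (MvPolynomial.C a * X 0 ^ 2 + MvPolynomial.C b * X 1 ^ 2 + X 2 ^ 2) = 0 at hrel
    rw [map_add, map_add, map_mul, map_mul, map_pow, map_pow, map_pow] at hrel
    erw [MvPolynomial.aeval_C, MvPolynomial.aeval_C, MvPolynomial.aeval_X, MvPolynomial.aeval_X, MvPolynomial.aeval_X] at hrel
    exact hrel
  obtain ⟨e₂⟩ := exists_affine_coords hKV ha hb hu1 htop hrel'
  obtain ⟨σ, hσ, -⟩ := CurveFF.exists_iso_of_algEquiv hdim hdimV (e₂.symm.trans e₁)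
  exact ⟨a, b, σ, ha, hb, hσ⟩

end Groth.Agent.ConicEdLib
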